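import Groth.Prelude.Def_AlgSpPerf
import Mathlib.Algebra.Category.ModuleCat.Sheaf.Free
import Mathlib.Algebra.Category.ModuleCat.Sheaf.Abelian
import Mathlib.CategoryTheory.Idempotents.Basic
import Mathlib.Algebra.Module.Projective
import Mathlib.Algebra.Category.ModuleCat.Projective

/-!
# Summands of finite free modules on a site with a final object
-/

set_option autoImplicit false
set_option linter.unusedSectionVars false
set_option linter.style.haveILetI false
set_option backward.isDefEq.respectTransparency false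
set_option backward.isDefEq.respectTransparency.types false

universe u

open CategoryTheory CategoryTheory.Limits Opposite

namespace GrothLib.GlobFree25

variable {C : Type u} [SmallCategory C] {J : GrothendieckTopology C} (R : Sheaf J RingCat.{u})
  [HasSheafify J AddCommGrpCat.{u}] [J.WEqualsLocallyBijective AddCommGrpCat.{u}]
  {X : C} (hX : IsTerminal X)

abbrev ev (X : C) : SheafOfModules.{u} R ⥤ ModuleCat.{u} (R.obj.obj (op X)) :=
  SheafOfModules.evaluation R (op X)

include hX in
theorem sections_ext_top {M : SheafOfModules.{u} R} (s t : M.sections) (h : s.1 (op X) = t.1 (op X)) :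
    s = t := by
  refine Subtype.ext (funext fun Y => ?_)
  rw [← s.2 (hX.from Y.unop).op, ← t.2 (hX.from Y.unop).op, h]

/-- The section with a given value at the final object. -/
noncomputable def secOfTop {M : SheafOfModules.{u} R} (m : (ev R X).obj M) : M.sections :=
  PresheafOfModules.sectionsMk (fun Y => M.val.map (hX.from Y.unop).op m) (fun Y Z f => by
    have h : (hX.from Y.unop).op ≫ f = (hX.from Z.unop).op := Quiver.Hom.unop_inj (hX.hom_ext _ _)
    rw [← PresheafOfModules.map_comp_apply, h])

theorem secOfTop_top {M : SheafOfModules.{u} R} (m : (ev R X).obj M) :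
    (secOfTop R hX m).1 (op X) = m := by
  change M.val.map (hX.from X).op m = m
  rw [hX.hom_ext (hX.from X) (𝟙 X), op_id]
  simp

variable {I : Type u}

/-- The value at the final object of the basis sections. -/
noncomputable def e (i : I) : (ev R X).obj (SheafOfModules.free (R := R) I) :=
  (SheafOfModules.freeSection (R := R) i).1 (op X)

include hX in
theorem hom_ext_free {M : SheafOfModules.{u} R} (f g : SheafOfModules.free (R := R) I ⟶ M)
    (h : ∀ i, (ev R X).map f (e R i) = (ev R X).map g (e R i)) : f = g := by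
  apply M.freeHomEquiv.injective
  funext i
  exact sections_ext_top R hX _ _ (h i)

/-- The map out of a free module with given values at the final object. -/
noncomputable def descTop {M : SheafOfModules.{u} R} (m : I → (ev R X).obj M) :
    SheafOfModules.free (R := R) I ⟶ M :=
  M.freeHomEquiv.symm fun i => secOfTop R hX (m i)

theorem descTop_e {M : SheafOfModules.{u} R} (m : I → (ev R X).obj M) (i : I) :
    (ev R X).map (descTop R hX m) (e R i) = m i := by
  have h := congrFun (M.freeHomEquiv.apply_symm_apply fun i => secOfTop R hX (m i)) i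
  have h' := congrArg (fun s : M.sections => s.1 (op X)) h
  exact h'.trans (secOfTop_top R hX (m i))

section finite

variable [Finite I]

theorem lin_ext {N : ModuleCat.{u} (R.obj.obj (op X))}
    (a b : (ev R X).obj (SheafOfModules.free (R := R) I) ⟶ N) (h : ∀ i, a (e R i) = b (e R i)) : a = b := by
  haveI : (ev R X).Additive := ⟨fun {_ _ _ _} => rfl⟩
  refine (isColimitOfPreserves (ev R X) (SheafOfModules.isColimitFreeCofan (R := R) I)).hom_ext
    fun ⟨i⟩ => ?_
  refine ModuleCat.hom_ext (LinearMap.ext_ring ?_)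
  exact h i

theorem exists_basis :
    ∃ φ : ((I → R.obj.obj (op X)) →ₗ[R.obj.obj (op X)] (ev R X).obj (SheafOfModules.free (R := R) I)),
      Function.Bijective φ ∧ ∀ i, ∃ x, φ x = e R i := by
  classical
  haveI := Fintype.ofFinite I
  let φ : (I → R.obj.obj (op X)) →ₗ[R.obj.obj (op X)] (ev R X).obj (SheafOfModules.free (R := R) I) :=
    Fintype.linearCombination (R.obj.obj (op X)) (e R)
  let c : Cofan (fun _ : I => (ev R X).obj (SheafOfModules.unit R)) :=
    Cofan.mk (ModuleCat.of _ (I → R.obj.obj (op X))) fun i =>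
      ModuleCat.ofHom (Y := I → R.obj.obj (op X)) (LinearMap.single _ (fun _ : I => R.obj.obj (op X)) i)
  haveI : (ev R X).Additive := ⟨fun {_ _ _ _} => rfl⟩
  let hc := isColimitCofanMkObjOfIsColimit (ev R X) _ _ (SheafOfModules.isColimitFreeCofan (R := R) I)
  let b := Cofan.IsColimit.desc hc c.inj
  have hb : ∀ i, b (e R i) = (Pi.single i 1 : I → R.obj.obj (op X)) := fun i =>
    ConcreteCategory.congr_hom (Cofan.IsColimit.fac hc c.inj i)
      (show (ev R X).obj (SheafOfModules.unit R) from (1 : R.obj.obj (op X)))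
  have hφ : ∀ i, φ (Pi.single i 1) = e R i := fun i => by simp [φ]
  have h1 : ∀ x, φ (b x) = x := fun x => ConcreteCategory.congr_hom
    (lin_ext R (b ≫ ModuleCat.ofHom φ) (𝟙 _) fun i => by
      change φ (b (e R i)) = _
      rw [hb, hφ]; rfl) x
  have h2 : ∀ x, b (φ x) = x := fun x => by
    have : b.hom ∘ₗ φ = LinearMap.id := LinearMap.pi_ext' fun i => LinearMap.ext_ring <| by
      change b (φ (Pi.single i 1)) = _
      rw [hφ, hb]; rfl
    exact LinearMap.congr_fun this x
  exact ⟨φ, ⟨Function.LeftInverse.injective h2, Function.RightInverse.surjective h1⟩, fun i => ⟨_, hφ i⟩⟩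

end finite

include hX in
theorem bijective_map {E E' : SheafOfModules.{u} R} (hE : DCoh.IsFinFreeSummandMod R E) :
    Function.Bijective fun φ : E ⟶ E' => (ev R X).map φ := by
  obtain ⟨n, i, p, hip⟩ := hE
  refine ⟨fun φ φ' h => ?_, fun g => ?_⟩
  · have : p ≫ φ = p ≫ φ' := hom_ext_free R hX _ _ fun j => by
      simp only [Functor.map_comp]
      exact congrArg (fun q : (ev R X).obj E ⟶ (ev R X).obj E' => q ((ev R X).map p (e R j))) h
    calc φ = (i ≫ p) ≫ φ := by rw [hip, Category.id_comp]
      _ = (i ≫ p) ≫ φ' := by rw [Category.assoc, this, Category.assoc]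
      _ = φ' := by rw [hip, Category.id_comp]
  · refine ⟨i ≫ descTop R hX fun j => g ((ev R X).map p (e R j)), ?_⟩
    have : (ev R X).map (descTop R hX fun j => g ((ev R X).map p (e R j))) = (ev R X).map p ≫ g :=
      lin_ext R _ _ fun j => descTop_e R hX _ j
    change (ev R X).map (_ ≫ _) = g
    rw [Functor.map_comp, this, ← Functor.map_comp_assoc, hip, (ev R X).map_id, Category.id_comp]

theorem finite_projective {E : SheafOfModules.{u} R} (hE : DCoh.IsFinFreeSummandMod R E) :
    Module.Finite (R.obj.obj (op X)) ((ev R X).obj E) ∧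
      Module.Projective (R.obj.obj (op X)) ((ev R X).obj E) := by
  obtain ⟨n, i, p, hip⟩ := hE
  obtain ⟨φ, hφ, -⟩ := exists_basis R (X := X) (I := ULift.{u} (Fin n))
  let f := LinearEquiv.ofBijective φ hφ
  have h : ((ev R X).map p).hom.comp ((ev R X).map i).hom = LinearMap.id := by
    rw [← ModuleCat.hom_comp, ← Functor.map_comp, hip, (ev R X).map_id]
    rfl
  haveI : Module.Projective (R.obj.obj (op X)) ((ev R X).obj (SheafOfModules.free (R := R) (ULift.{u} (Fin n)))) :=
    Module.Projective.of_equiv f
  exact ⟨Module.Finite.of_surjective (((ev R X).map p).hom.comp f.toLinearMap)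
      (fun y => ⟨f.symm ((ev R X).map i y), by
        change ((ev R X).map p).hom (f (f.symm _)) = y
        rw [LinearEquiv.apply_symm_apply]
        exact LinearMap.congr_fun h y⟩),
    Module.Projective.of_split _ _ h⟩

include hX in
theorem exists_of_projective (M : ModuleCat.{u} (R.obj.obj (op X)))
    [Module.Finite (R.obj.obj (op X)) M] [Module.Projective (R.obj.obj (op X)) M] :
    ∃ E : SheafOfModules.{u} R, DCoh.IsFinFreeSummandMod R E ∧ Nonempty ((ev R X).obj E ≅ M) := by
  obtain ⟨n, π, hπ⟩ := Module.Finite.exists_fin' (R.obj.obj (op X)) M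
  obtain ⟨φ, hφ, -⟩ := exists_basis R (X := X) (I := ULift.{u} (Fin n))
  let f : (Fin n → R.obj.obj (op X)) ≃ₗ[R.obj.obj (op X)]
      (ev R X).obj (SheafOfModules.free (R := R) (ULift.{u} (Fin n))) :=
    (LinearEquiv.funCongrLeft _ _ Equiv.ulift).trans (LinearEquiv.ofBijective φ hφ)
  obtain ⟨s, hs⟩ := π.exists_rightInverse_of_surjective (LinearMap.range_eq_top.2 hπ)
  let a : (ev R X).obj (SheafOfModules.free (R := R) (ULift.{u} (Fin n))) ⟶ M :=
    ModuleCat.ofHom (π.comp f.symm.toLinearMap)
  let b : M ⟶ (ev R X).obj (SheafOfModules.free (R := R) (ULift.{u} (Fin n))) :=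
    ModuleCat.ofHom (f.toLinearMap.comp s)
  have hba : b ≫ a = 𝟙 M := ModuleCat.hom_ext <| LinearMap.ext fun x => by
    change π (f.symm (f (s x))) = x
    rw [LinearEquiv.symm_apply_apply]
    exact LinearMap.congr_fun hs x
  have hfree : DCoh.IsFinFreeSummandMod R (SheafOfModules.free (R := R) (ULift.{u} (Fin n))) :=
    ⟨n, 𝟙 _, 𝟙 _, Category.id_comp _⟩
  obtain ⟨ε, hε⟩ := (bijective_map R hX hfree).2 (a ≫ b)
  have hεε : ε ≫ ε = ε := (bijective_map R hX hfree).1 <| by
    change (ev R X).map (ε ≫ ε) = (ev R X).map ε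
    rw [Functor.map_comp]
    simp only [hε, Category.assoc, reassoc_of% hba]
  obtain ⟨E, i, p, hip, hpi⟩ := IsIdempotentComplete.idempotents_split _ ε hεε
  simp only at hε
  have hpi' : (ev R X).map p ≫ (ev R X).map i = a ≫ b := by rw [← Functor.map_comp, hpi, hε]
  refine ⟨E, ⟨n, i, p, hip⟩,
    ⟨{ hom := (ev R X).map i ≫ a, inv := b ≫ (ev R X).map p, hom_inv_id := ?_, inv_hom_id := ?_ }⟩⟩
  · have h1 : (ev R X).map i ≫ (ev R X).map p = 𝟙 _ := by rw [← Functor.map_comp, hip, (ev R X).map_id]
    simp only [Category.assoc, ← reassoc_of% hpi', h1, Category.comp_id]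
  · simp only [Category.assoc, reassoc_of% hpi', reassoc_of% hba, hba]

end GrothLib.GlobFree25
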